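import Cfsg.Agent.CoprimeRankThree.Setup

/-!
An elementary abelian group of order `q ^ 3` acting coprimely on `G`: if the derived subgroups of
the fixed points of the nontrivial elements are bounded, then so is the derived subgroup of `G`.
-/

set_option autoImplicit false

open Subgroup
open scoped Pointwise commutatorElement

namespace Cfsg.Agent.CoprimeRankThree

universe u

/-- The bound on the generating set. -/
def setBound (q m : ℕ) : ℕ := q ^ 3 * 2 ^ q ^ 3 * m

/-- The bound on the automorphisms induced on the generated subgroup. -/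
def actBound (q m : ℕ) : ℕ :=
  ((m ^ setBound q m) ^ 2 ^ q ^ 3) ^ (m ^ setBound q m + 1)

/-- The bound on the derived subgroup. -/
def derivedBound (q m : ℕ) : ℕ :=
  (Finset.range (actBound q m * actBound q m + 1)).sup cardCommutatorBound * m ^ setBound q m

/-- A nonempty bound raised to a bounded exponent. -/
theorem pow_le_pow_of_pos {m a b : ℕ} (hm : 1 ≤ m) (h : a ≤ b) : m ^ a ≤ m ^ b :=
  Nat.pow_le_pow_right hm h

section General

/-- A finite group whose maximal prime power divisors are small is small. -/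
theorem le_pow_of_prime_powers {n M T : ℕ} (hn : n ≠ 0) (hT : 1 ≤ T)
    (hp : ∀ p ∈ n.primeFactors, p ≤ M ∧ p ^ n.factorization p ≤ T) : n ≤ T ^ (M + 1) := by
  calc n = ∏ p ∈ n.primeFactors, p ^ n.factorization p := by
        conv_lhs => rw [← Nat.prod_factorization_pow_eq_self hn]
        rw [Finsupp.prod, Nat.support_factorization]
    _ ≤ ∏ p ∈ n.primeFactors, T := Finset.prod_le_prod' fun p h => (hp p h).2
    _ = T ^ n.primeFactors.card := Finset.prod_const T
    _ ≤ T ^ (M + 1) := by
        refine pow_le_pow_of_pos hT ?_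
        refine (Finset.card_le_card (t := Finset.range (M + 1)) fun p h => ?_).trans
          (Finset.card_range _).le
        exact Finset.mem_range.mpr (Nat.lt_succ_of_le (hp p h).1)

variable {G : Type u} [Group G]

private theorem commutator_mul_central {g h z w : G} (hz : z ∈ center G) (hw : w ∈ center G) :
    ⁅g * z, h * w⁆ = ⁅g, h⁆ := by
  have e1 : ∀ x : G, g * z * x * (g * z)⁻¹ = g * x * g⁻¹ := fun x => by
    rw [mul_inv_rev]
    have := mem_center_iff.mp hz x
    calc g * z * x * (z⁻¹ * g⁻¹) = g * (z * x) * z⁻¹ * g⁻¹ := by simp only [mul_assoc]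
      _ = g * (x * z) * z⁻¹ * g⁻¹ := by rw [this]
      _ = g * x * g⁻¹ := by simp [mul_assoc]
  have e2 : g * (h * w) * g⁻¹ * (h * w)⁻¹ = g * h * g⁻¹ * h⁻¹ := by
    have h1 := mem_center_iff.mp hw g⁻¹
    calc g * (h * w) * g⁻¹ * (h * w)⁻¹ = g * h * (w * g⁻¹) * w⁻¹ * h⁻¹ := by
          simp only [mul_inv_rev, mul_assoc]
      _ = g * h * (g⁻¹ * w) * w⁻¹ * h⁻¹ := by rw [h1]
      _ = g * h * g⁻¹ * h⁻¹ := by simp [mul_assoc]
  rw [commutatorElement_def, commutatorElement_def, e1, e2]

/-- There are at most `[G : Z(G)]²` commutators. -/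
theorem card_commutatorSet_le [Finite G] :
    Nat.card (commutatorSet G) ≤ (center G).index * (center G).index := by
  have key : commutatorSet G ⊆
      Set.range fun p : (G ⧸ center G) × (G ⧸ center G) => ⁅p.1.out, p.2.out⁆ := by
    rintro _ ⟨g, h, rfl⟩
    obtain ⟨z, hz⟩ := QuotientGroup.mk_out_eq_mul (center G) g
    obtain ⟨w, hw⟩ := QuotientGroup.mk_out_eq_mul (center G) h
    refine ⟨(g, h), ?_⟩
    change ⁅(g : G ⧸ center G).out, (h : G ⧸ center G).out⁆ = _
    rw [hz, hw, commutator_mul_central z.2 w.2]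
  refine (Nat.card_mono (Set.finite_range _) key).trans ((Finite.card_range_le _).trans ?_)
  rw [Nat.card_prod, Subgroup.index_eq_card]

/-- A bound for the order of the abelianisation of a group generated by few elements of small
order. -/
theorem card_abelianization_le [Finite G] {ι : Type u} [Finite ι] (g : ι → G) {m : ℕ}
    (hgen : closure (Set.range g) = ⊤) (hord : ∀ i, orderOf (g i) ≤ m) :
    (commutator G).index ≤ m ^ Nat.card ι := by
  classical
  have := Fintype.ofFinite ι
  let Φ : (∀ i, zpowers (Abelianization.of (g i))) →* Abelianization G :=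
    { toFun := fun t => ∏ i, (t i : Abelianization G)
      map_one' := by simp
      map_mul' := fun s t => by simp [Finset.prod_mul_distrib] }
  have hsurj : Function.Surjective Φ := by
    rw [← MonoidHom.range_eq_top, eq_top_iff]
    have htop : (⊤ : Subgroup (Abelianization G)) = (⊤ : Subgroup G).map Abelianization.of := by
      rw [map_top_of_surjective]
      exact QuotientGroup.mk_surjective
    rw [htop, ← hgen, MonoidHom.map_closure, closure_le]
    rintro _ ⟨_, ⟨i, rfl⟩, rfl⟩
    refine ⟨Pi.mulSingle i ⟨_, mem_zpowers _⟩, ?_⟩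
    change ∏ j, ((Pi.mulSingle i ⟨_, mem_zpowers _⟩ :
      ∀ j, zpowers (Abelianization.of (g j))) j : Abelianization G) = _
    rw [Finset.prod_eq_single i]
    · rw [Pi.mulSingle_eq_same]
    · intro j _ hj; rw [Pi.mulSingle_eq_of_ne hj, OneMemClass.coe_one]
    · exact fun h => absurd (Finset.mem_univ i) h
  rw [Subgroup.index_eq_card]
  refine (Nat.card_le_card_of_surjective Φ hsurj).trans ?_
  rw [Nat.card_pi, Nat.card_eq_fintype_card (α := ι), ← Finset.card_univ, ← Finset.prod_const]
  refine Finset.prod_le_prod' fun i _ => ?_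
  rw [Nat.card_zpowers]
  exact (Nat.le_of_dvd (orderOf_pos _) (orderOf_map_dvd _ _)).trans (hord i)

end General

variable {A G : Type u} [Group A] [Finite A] [Group G] [Finite G] [MulDistribMulAction A G]

/-- The number of cocyclic subgroups. -/
theorem card_cocyc_le {n : ℕ} (hn : Nat.card A = n) : Nat.card (Cocyc A) ≤ 2 ^ n := by
  classical
  have := Fintype.ofFinite A
  refine (Nat.card_le_card_of_injective (fun B : Cocyc A => ((B.1 : Subgroup A) : Set A))
    fun B C h => Subtype.ext (SetLike.coe_injective h)).trans ?_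
  rw [Nat.card_eq_fintype_card, Fintype.card_set, ← hn, Nat.card_eq_fintype_card]

/-- Two cocyclic subgroups of an elementary abelian group of order `q ^ 3` meet nontrivially. -/
theorem exists_common {q : ℕ} (hq : q.Prime) (hA : Nat.card A = q ^ 3)
    (hc : ∀ a b : A, a * b = b * a) (he : ∀ a : A, a ^ q = 1) (B C : Cocyc A) :
    ∃ a : A, a ≠ 1 ∧ a ∈ B.1 ∧ a ∈ C.1 := by
  have hbig : ∀ D : Cocyc A, q ^ 2 ≤ Nat.card D.1 := by
    rintro ⟨D, a, ha⟩
    have hnorm : zpowers a ≤ normalizer (D : Set A) := by
      refine fun x _ => mem_normalizer_iff.mpr fun y => ?_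
      rw [hc x y, mul_inv_cancel_right]
    have hsurj : Function.Surjective fun p : D × zpowers a => (p.1 : A) * p.2 := by
      intro x
      have hx : x ∈ D ⊔ zpowers a := ha ▸ Subgroup.mem_top x
      obtain ⟨d, hd, z, hz, rfl⟩ := (Coprime.mem_sup_of_le_normalizer hnorm).mp hx
      exact ⟨(⟨d, hd⟩, ⟨z, hz⟩), rfl⟩
    have h1 := Nat.card_le_card_of_surjective _ hsurj
    rw [hA, Nat.card_prod, Nat.card_zpowers] at h1
    have h2 : orderOf a ≤ q := Nat.le_of_dvd hq.pos (orderOf_dvd_of_pow_eq_one (he a))
    have h3 : q ^ 2 * q ≤ Nat.card D * q :=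
      calc q ^ 2 * q = q ^ 3 := by ring
        _ ≤ Nat.card D * orderOf a := h1
        _ ≤ Nat.card D * q := Nat.mul_le_mul_left _ h2
    exact Nat.le_of_mul_le_mul_right h3 hq.pos
  by_contra hcon
  push Not at hcon
  have hinj : Function.Injective fun p : B.1 × C.1 => (p.1 : A) * p.2 := by
    rintro ⟨b, c⟩ ⟨b', c'⟩ h
    have h' : (b' : A)⁻¹ * (b : A) = (c' : A) * (c : A)⁻¹ := by
      have h0 : (b : A) * c = b' * c' := h
      rw [inv_mul_eq_iff_eq_mul, ← mul_assoc, ← h0, mul_inv_cancel_right]
    have h1 : (b' : A)⁻¹ * (b : A) = 1 := by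
      by_contra h1
      exact hcon _ h1 (mul_mem (inv_mem b'.2) b.2) (h' ▸ mul_mem c'.2 (inv_mem c.2))
    have h2 : b = b' := Subtype.ext (inv_mul_eq_one.mp h1).symm
    subst h2
    exact Prod.ext rfl (Subtype.ext (mul_left_cancel h))
  have h1 := Nat.card_le_card_of_injective _ hinj
  rw [hA, Nat.card_prod] at h1
  have h2 : q ^ 4 ≤ q ^ 3 :=
    calc q ^ 4 = q ^ 2 * q ^ 2 := by ring
      _ ≤ Nat.card B.1 * Nat.card C.1 := Nat.mul_le_mul (hbig B) (hbig C)
      _ ≤ q ^ 3 := h1
  exact absurd ((Nat.pow_le_pow_iff_right hq.one_lt).mp h2) (by norm_num)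

variable (A) in
/-- The derived subgroup of the fixed points of `a`. -/
abbrev derivedFixed (G : Type u) [Group G] [MulDistribMulAction A G] (a : A) : Subgroup G :=
  ⁅FixedPoints.subgroup (zpowers a) G, FixedPoints.subgroup (zpowers a) G⁆

variable (A) in
/-- The generating set: pieces of the derived subgroups of fixed points. -/
def pieces (G : Type u) [Group G] [MulDistribMulAction A G] : Set G :=
  {y | ∃ a : A, a ≠ 1 ∧ ∃ B : Cocyc A,
    y ∈ derivedFixed A G a ⊓ FixedPoints.subgroup B.1 G}

/-- The order bound. -/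
theorem card_commutator_le {q m : ℕ} (hq : q.Prime) (hA : Nat.card A = q ^ 3)
    (hc : ∀ a b : A, a * b = b * a) (he : ∀ a : A, a ^ q = 1) (hqG : ¬ q ∣ Nat.card G)
    (hm : ∀ a : A, a ≠ 1 → Nat.card (derivedFixed A G a) ≤ m) :
    Nat.card (commutator G) ≤ derivedBound q m := by
  classical
  have hcop : (Nat.card A).Coprime (Nat.card G) := by
    rw [hA]; exact ((Nat.Prime.coprime_iff_not_dvd hq).mpr hqG).pow_left 3
  have := Fintype.ofFinite (Cocyc A)
  have hr : Nat.card (Cocyc A) ≤ 2 ^ q ^ 3 := card_cocyc_le hA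
  -- a nontrivial element of `A`
  have : Nontrivial A := Finite.one_lt_card_iff_nontrivial.mp (hA ▸ Nat.one_lt_pow (by norm_num) hq.one_lt)
  obtain ⟨a₀, ha₀⟩ := exists_ne (1 : A)
  have hm1 : 1 ≤ m := Nat.card_pos.trans_le (hm a₀ ha₀)
  set L : Subgroup G := closure (pieces A G) with hLdef
  -- the generating set is small
  have hY : Nat.card (pieces A G) ≤ setBound q m := by
    let S := Σ p : {a : A // a ≠ 1} × Cocyc A,
      (derivedFixed A G p.1.1 ⊓ FixedPoints.subgroup p.2.1 G : Subgroup G)
    have := Fintype.ofFinite ({a : A // a ≠ 1} × Cocyc A)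
    have hsub : pieces A G ⊆ Set.range fun s : S => (s.2 : G) := by
      rintro y ⟨a, ha, B, hy⟩
      exact ⟨⟨(⟨a, ha⟩, B), ⟨y, hy⟩⟩, rfl⟩
    refine (Nat.card_mono (Set.finite_range _) hsub).trans ((Finite.card_range_le _).trans ?_)
    rw [Nat.card_sigma]
    refine (Finset.sum_le_card_nsmul _ _ m fun p _ =>
      (Nat.le_of_dvd Nat.card_pos (card_dvd_of_le inf_le_left)).trans (hm _ p.1.2)).trans ?_
    rw [Finset.card_univ, ← Nat.card_eq_fintype_card, Nat.card_prod, smul_eq_mul, setBound]
    refine Nat.mul_le_mul_right _ (Nat.mul_le_mul ?_ hr)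
    rw [← hA]
    exact Finite.card_subtype_le _
  -- the derived subgroups of the fixed points lie in `L`
  have hDL : ∀ a : A, a ≠ 1 → derivedFixed A G a ≤ L := by
    intro a ha
    refine (le_iSup_fixedPoints hc hcop
      ((invariant_fixedPoints hc a).commutator (invariant_fixedPoints hc a))).trans
      (iSup_le fun B y hy => subset_closure ⟨a, ha, B, hy⟩)
  have hcomm : ∀ (B C : Cocyc A), ∃ a : A, a ≠ 1 ∧ ∀ x ∈ FixedPoints.subgroup B.1 G,
      ∀ y ∈ FixedPoints.subgroup C.1 G, ⁅x, y⁆ ∈ derivedFixed A G a := by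
    intro B C
    obtain ⟨a, ha, haB, haC⟩ := exists_common hq hA hc he B C
    exact ⟨a, ha, fun x hx y hy => commutator_mem_commutator (fixedPoints_le_zpowers haB hx)
      (fixedPoints_le_zpowers haC hy)⟩
  have hgen : (⊤ : Subgroup G) ≤ ⨆ B : Cocyc A, FixedPoints.subgroup B.1 G :=
    (le_iSup_fixedPoints hc hcop invariant_top).trans (iSup_mono fun B => inf_le_right)
  -- `L` is normal
  have hconj : ∀ (C : Cocyc A), ∀ h ∈ FixedPoints.subgroup C.1 G, ∀ x ∈ L, h * x * h⁻¹ ∈ L := by
    intro C h hh x hx
    have : L ≤ L.comap (MulAut.conj h).toMonoidHom := by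
      rw [hLdef, closure_le]
      rintro y ⟨a, ha, B, hy⟩
      obtain ⟨b, hb, hbc⟩ := hcomm C B
      change h * y * h⁻¹ ∈ L
      have h1 := L.mul_mem (hDL b hb (hbc h hh y hy.2)) (hDL a ha hy.1)
      rwa [commutatorElement_def, inv_mul_cancel_right] at h1
    exact this hx
  have hLn : L.Normal := by
    rw [← normalizer_eq_top_iff, eq_top_iff]
    refine hgen.trans (iSup_le fun C h hh => mem_normalizer_iff.mpr fun x => ⟨hconj C h hh x, ?_⟩)
    intro hx
    have := hconj C h⁻¹ (inv_mem hh) _ hx
    simpa [mul_assoc] using this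
  -- `G / L` is abelian
  have hGL : commutator G ≤ L := by
    set f := QuotientGroup.mk' L with hf
    have hcen : ∀ B : Cocyc A, ∀ x ∈ FixedPoints.subgroup B.1 G, ∀ g, f g * f x = f x * f g := by
      intro B x hx g
      have hle : (⨆ C : Cocyc A, FixedPoints.subgroup C.1 G) ≤ (centralizer {f x}).comap f := by
        refine iSup_le fun C y hy => ?_
        obtain ⟨a, ha, hac⟩ := hcomm B C
        rw [mem_comap, mem_centralizer_singleton_iff, ← commutatorElement_eq_one_iff_mul_comm,
          ← map_commutatorElement]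
        refine (QuotientGroup.eq_one_iff _).mpr ?_
        rw [← commutatorElement_inv]
        exact inv_mem (hDL a ha (hac x hx y hy))
      exact mem_centralizer_singleton_iff.mp (hle (hgen (Subgroup.mem_top g)))
    have hle2 : ∀ g x : G, f g * f x = f x * f g := by
      intro g x
      have hle : (⨆ C : Cocyc A, FixedPoints.subgroup C.1 G) ≤ (centralizer {f g}).comap f := by
        refine iSup_le fun C y hy => ?_
        rw [mem_comap, mem_centralizer_singleton_iff]
        exact (hcen C y hy g).symm
      exact (mem_centralizer_singleton_iff.mp (hle (hgen (Subgroup.mem_top x)))).symm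
    rw [commutator_eq_closure, closure_le]
    rintro _ ⟨g, x, rfl⟩
    refine (QuotientGroup.eq_one_iff _).mp ?_
    change f ⁅g, x⁆ = 1
    rw [map_commutatorElement, commutatorElement_eq_one_iff_mul_comm]
    exact hle2 g x
  -- the action of `G` on `L`
  set ρ : G →* MulAut L := MulAut.conjNormal with hρ
  set M := m ^ setBound q m with hM
  have hM1 : 1 ≤ M := Nat.one_le_pow _ _ hm1
  have : Fintype (pieces A G) := Fintype.ofFinite _
  have himg : ∀ C : Cocyc A, Nat.card ((FixedPoints.subgroup C.1 G).map ρ) ≤ M := by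
    intro C
    have hex : ∀ y : pieces A G, ∃ b : A, b ≠ 1 ∧
        ∀ h ∈ FixedPoints.subgroup C.1 G, ⁅h, (y : G)⁆ ∈ derivedFixed A G b := by
      rintro ⟨y, a, ha, B, hy⟩
      obtain ⟨b, hb, hbc⟩ := hcomm C B
      exact ⟨b, hb, fun h hh => hbc h hh y hy.2⟩
    choose b hb hbc using hex
    have hmem : ∀ σ : (FixedPoints.subgroup C.1 G).map ρ, ∀ y : pieces A G,
        ((σ.1 ⟨y.1, subset_closure y.2⟩ : L) : G) * (y : G)⁻¹ ∈ derivedFixed A G (b y) := by
      rintro ⟨_, h, hh, rfl⟩ y
      have := hbc y h hh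
      rwa [commutatorElement_def] at this
    let Ψ : (FixedPoints.subgroup C.1 G).map ρ → ∀ y : pieces A G, derivedFixed A G (b y) :=
      fun σ y => ⟨_, hmem σ y⟩
    have hΨ : Function.Injective Ψ := by
      intro σ τ h
      apply Subtype.ext
      refine MulEquiv.toMonoidHom_injective (MonoidHom.eq_of_eqOn_dense
        closure_closure_coe_preimage fun y hy => ?_)
      have h1 : ((Ψ σ ⟨y.1, hy⟩ : derivedFixed A G _) : G) = Ψ τ ⟨y.1, hy⟩ := by rw [h]
      exact Subtype.ext (mul_right_cancel h1)
    refine (Nat.card_le_card_of_injective Ψ hΨ).trans ?_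
    rw [Nat.card_pi]
    refine (Finset.prod_le_pow_card _ _ m fun y _ => hm _ (hb y)).trans ?_
    rw [Finset.card_univ, ← Nat.card_eq_fintype_card]
    exact pow_le_pow_of_pos hm1 hY
  -- the order of the induced group of automorphisms
  have hR : Nat.card ρ.range ≤ actBound q m := by
    refine le_pow_of_prime_powers Nat.card_pos.ne' (Nat.one_le_pow _ _ hM1) fun p hp => ?_
    have := Fact.mk (Nat.prime_of_mem_primeFactors hp)
    obtain ⟨P, hP⟩ := exists_invariant_sylow hc hcop p
    have hcard : Nat.card ((P : Subgroup G).map ρ) = p ^ (Nat.card ρ.range).factorization p := by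
      rw [← Sylow.card_eq_multiplicity (P.mapSurjective ρ.rangeRestrict_surjective),
        Sylow.coe_mapSurjective,
        ← card_map_of_injective (H := MulAut L) (K := (P : Subgroup G).map ρ.rangeRestrict)
          (f := ρ.range.subtype) ρ.range.subtype_injective, Subgroup.map_map,
        MonoidHom.subtype_comp_rangeRestrict]
    have : Group.IsNilpotent (P : Subgroup G) := P.2.isNilpotent
    refine ⟨?_, ?_⟩
    · obtain ⟨B, hB⟩ : ∃ B : Cocyc A,
          ((P : Subgroup G) ⊓ FixedPoints.subgroup B.1 G).map ρ ≠ ⊥ := by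
        by_contra hall
        push Not at hall
        have hbot : (P : Subgroup G).map ρ = ⊥ := by
          rw [eq_bot_iff]
          refine (map_mono (le_iSup_fixedPoints hc hcop hP)).trans ?_
          rw [Subgroup.map_iSup]
          exact iSup_le fun B => (hall B).le
        rw [hbot, card_bot] at hcard
        have hpos := (Nat.Prime.factorization_pos_of_dvd (Nat.prime_of_mem_primeFactors hp)
          Nat.card_pos.ne' (Nat.dvd_of_mem_primeFactors hp))
        exact absurd hcard.symm (Nat.one_lt_pow hpos.ne' (Nat.prime_of_mem_primeFactors hp).one_lt).ne'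
      have hpg : IsPGroup p (((P : Subgroup G) ⊓ FixedPoints.subgroup B.1 G).map ρ) :=
        (P.2.to_le inf_le_left).map ρ
      have hdvd : p ∣ Nat.card (((P : Subgroup G) ⊓ FixedPoints.subgroup B.1 G).map ρ) := by
        obtain ⟨n, hn⟩ := hpg.exists_card_eq
        rcases Nat.eq_zero_or_pos n with rfl | hn0
        · exact absurd (eq_bot_of_card_eq _ (by rw [hn, pow_zero])) hB
        · rw [hn]; exact dvd_pow_self p hn0.ne'
      exact (Nat.le_of_dvd Nat.card_pos hdvd).trans
        ((Nat.le_of_dvd Nat.card_pos (card_dvd_of_le (map_mono inf_le_right))).trans (himg B))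
    · rw [← hcard]
      let prodOf : (∀ B : Cocyc A, (FixedPoints.subgroup B.1 G).map ρ) → MulAut L :=
        fun t => ((Finset.univ : Finset (Cocyc A)).toList.map fun B => (t B : MulAut L)).prod
      have hsub : (((P : Subgroup G).map ρ : Subgroup (MulAut L)) : Set (MulAut L)) ⊆
          Set.range prodOf := by
        rintro _ ⟨x, hx, rfl⟩
        obtain ⟨s, hs, hprod⟩ := exists_prod_fixedPoints hc hcop hP hx
        refine ⟨fun B => ⟨ρ (s B), mem_map_of_mem _ (hs B).2⟩, ?_⟩
        change ((Finset.univ : Finset (Cocyc A)).toList.map fun B => ρ (s B)).prod = _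
        rw [← hprod, map_list_prod, List.map_map]
        rfl
      refine (Nat.card_mono (Set.finite_range prodOf) hsub).trans ((Finite.card_range_le _).trans ?_)
      rw [Nat.card_pi]
      refine (Finset.prod_le_pow_card _ _ M fun B _ => himg B).trans ?_
      rw [Finset.card_univ, ← Nat.card_eq_fintype_card]
      exact pow_le_pow_of_pos hM1 hr
  -- `L` is centre-by-small
  have hZ : (center L).index ≤ Nat.card ρ.range := by
    have hker : (ρ.comp L.subtype).ker ≤ center L := by
      intro z hz
      rw [mem_center_iff]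
      intro x
      have h1 : ρ (z : G) x = x := by
        rw [show ρ (z : G) = 1 from hz]; rfl
      have h2 : (z : G) * x * (z : G)⁻¹ = x := by
        have := congrArg Subtype.val h1
        rwa [hρ, MulAut.conjNormal_apply] at this
      exact Subtype.ext (mul_inv_eq_iff_eq_mul.mp h2).symm
    calc (center L).index ≤ (ρ.comp L.subtype).ker.index :=
          Nat.le_of_dvd (Nat.pos_of_ne_zero index_ne_zero_of_finite) (index_dvd_of_le hker)
      _ = Nat.card (ρ.comp L.subtype).range := index_ker _
      _ ≤ Nat.card ρ.range :=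
          Nat.le_of_dvd Nat.card_pos (card_dvd_of_le (by rintro _ ⟨x, rfl⟩; exact ⟨_, rfl⟩))
  have hL' : Nat.card (commutator L) ≤
      (Finset.range (actBound q m * actBound q m + 1)).sup cardCommutatorBound := by
    refine (card_commutator_le_of_finite_commutatorSet L).trans
      (Finset.le_sup (f := cardCommutatorBound) ?_)
    rw [Finset.mem_range, Nat.lt_succ_iff]
    exact card_commutatorSet_le.trans (Nat.mul_le_mul (hZ.trans hR) (hZ.trans hR))
  have hLab : (commutator L).index ≤ M := by
    refine (card_abelianization_le (G := L) (fun y : pieces A G => ⟨y.1, subset_closure y.2⟩) (m := m)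
      ?_ ?_).trans (pow_le_pow_of_pos hm1 hY)
    · rw [eq_top_iff, ← closure_closure_coe_preimage (k := pieces A G)]
      exact closure_mono fun y hy => ⟨⟨y.1, hy⟩, rfl⟩
    · rintro ⟨y, a, ha, B, hy⟩
      rw [← orderOf_coe]
      change orderOf y ≤ m
      exact (Nat.le_of_dvd Nat.card_pos (orderOf_dvd_natCard _ hy.1)).trans (hm a ha)
  calc Nat.card (commutator G) ≤ Nat.card L := Nat.le_of_dvd Nat.card_pos (card_dvd_of_le hGL)
    _ = Nat.card (commutator L) * (commutator L).index := (card_mul_index _).symm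
    _ ≤ derivedBound q m := Nat.mul_le_mul hL' hLab

end Cfsg.Agent.CoprimeRankThree
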