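import Mathlib

/-!
A finite nilpotent group generated, termwise along its lower central series, by subgroups `C i`
is the product of the `C i` in any fixed order.
-/

set_option autoImplicit false

open Subgroup
open scoped commutatorElement

namespace Cfsg.Agent.CoprimeRankThree

universe u v

variable {P : Type u} [Group P]

private theorem prod_map_mul {Q : Type u} [Group Q] {ι : Type v} (s t : ι → Q)
    (ht : ∀ i, t i ∈ center Q) (l : List ι) :
    (l.map fun i => s i * t i).prod = (l.map s).prod * (l.map t).prod := by
  induction l with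
  | nil => simp
  | cons i l ih =>
    simp only [List.map_cons, List.prod_cons, ih]
    have h := mem_center_iff.mp (ht i) (l.map s).prod
    simp only [mul_assoc]
    rw [← mul_assoc (t i), ← h, mul_assoc]

/-- Product decomposition in a nilpotent group. -/
theorem exists_prod_of_nilpotent [Group.IsNilpotent P] {ι : Type v} [Fintype ι]
    (C : ι → Subgroup P)
    (h : ∀ k, (⊤ : Subgroup P).lowerCentralSeries k ≤
      ⨆ i, (⊤ : Subgroup P).lowerCentralSeries k ⊓ C i) (x : P) :
    ∃ s : ι → P, (∀ i, s i ∈ C i) ∧ ((Finset.univ : Finset ι).toList.map s).prod = x := by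
  classical
  set l := (Finset.univ : Finset ι).toList with hl
  suffices key : ∀ k, ∀ x : P, ∃ s : ι → P, (∀ i, s i ∈ C i) ∧
      (l.map s).prod⁻¹ * x ∈ (⊤ : Subgroup P).lowerCentralSeries k by
    obtain ⟨n, hn⟩ := Subgroup.nilpotent_iff_lowerCentralSeries.mp ‹Group.IsNilpotent P›
    obtain ⟨s, hs, hx⟩ := key n x
    rw [hn, Subgroup.mem_bot, inv_mul_eq_one] at hx
    exact ⟨s, hs, hx⟩
  intro k
  induction k with
  | zero =>
    exact fun x => ⟨fun _ => 1, fun i => one_mem _, by rw [Subgroup.lowerCentralSeries_zero]; trivial⟩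
  | succ k ih =>
    intro x
    set M := (⊤ : Subgroup P).lowerCentralSeries k with hM
    set N := (⊤ : Subgroup P).lowerCentralSeries (k + 1) with hN
    set f : P →* P ⧸ N := QuotientGroup.mk' N with hf
    have hcen : ∀ z ∈ M, f z ∈ center (P ⧸ N) := by
      intro z hz
      rw [mem_center_iff]
      intro q
      obtain ⟨y, rfl⟩ := QuotientGroup.mk'_surjective N q
      have hzy : ⁅z, y⁆ ∈ N := by
        rw [hN, Subgroup.lowerCentralSeries_succ]
        exact commutator_mem_commutator hz (Subgroup.mem_top y)
      have h1 : ⁅f z, f y⁆ = 1 := by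
        rw [← map_commutatorElement]
        exact (QuotientGroup.eq_one_iff _).mpr hzy
      exact (commutatorElement_eq_one_iff_mul_comm.mp h1).symm
    have claim : ∀ z ∈ ⨆ i, M ⊓ C i, ∃ t : ι → P, (∀ i, t i ∈ M ⊓ C i) ∧
        f (l.map t).prod = f z := by
      intro z hz
      refine Subgroup.iSup_induction (fun i => M ⊓ C i) (C := fun z => ∃ t : ι → P,
        (∀ i, t i ∈ M ⊓ C i) ∧ f (l.map t).prod = f z) hz ?_ ?_ ?_
      · intro i y hy
        refine ⟨Pi.mulSingle i y, fun j => ?_, ?_⟩
        · by_cases hj : j = i
          · subst hj; rwa [Pi.mulSingle_eq_same]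
          · rw [Pi.mulSingle_eq_of_ne hj]; exact one_mem _
        · rw [List.prod_map_eq_pow_single i (Pi.mulSingle i y)
            (fun j hj _ => Pi.mulSingle_eq_of_ne hj _),
            List.count_eq_one_of_mem (Finset.nodup_toList _) (Finset.mem_toList.mpr (Finset.mem_univ i)),
            Pi.mulSingle_eq_same, pow_one]
      · exact ⟨fun _ => 1, fun i => one_mem _, by simp⟩
      · intro y y' ihy ihy'
        obtain ⟨t, ht, hy⟩ := ihy
        obtain ⟨t', ht', hy'⟩ := ihy'
        refine ⟨fun i => t i * t' i, fun i => mul_mem (ht i) (ht' i), ?_⟩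
        rw [map_mul, ← hy, ← hy', map_list_prod, map_list_prod, map_list_prod, List.map_map,
          List.map_map, List.map_map]
        rw [← prod_map_mul (f ∘ t) (f ∘ t') (fun i => hcen _ (ht' i).1) l]
        refine congrArg List.prod (List.map_congr_left fun i _ => ?_)
        simp
    obtain ⟨s, hs, hx⟩ := ih x
    obtain ⟨t, ht, ht'⟩ := claim _ (h k hx)
    refine ⟨fun i => s i * t i, fun i => mul_mem (hs i) (ht i).2, QuotientGroup.eq.mp ?_⟩
    change f (l.map fun i => s i * t i).prod = f x
    rw [map_list_prod, List.map_map,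
      show (f ∘ fun i => s i * t i) = fun i => f (s i) * f (t i) from funext fun i => map_mul f _ _,
      prod_map_mul (fun i => f (s i)) (fun i => f (t i)) (fun i => hcen _ (ht i).1) l]
    have e1 : f (l.map s).prod = (l.map fun i => f (s i)).prod := by
      rw [map_list_prod, List.map_map]; rfl
    have e2 : f (l.map t).prod = (l.map fun i => f (t i)).prod := by
      rw [map_list_prod, List.map_map]; rfl
    rw [← e1, ← e2, ht', map_mul, map_inv, mul_inv_cancel_left]

end Cfsg.Agent.CoprimeRankThree
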