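import Cfsg.Agent.Coprime.Action
import Cfsg.Agent.Coprime.Generation
import Cfsg.Agent.CoprimeRankThree.Product

/-!
An abelian group `A` acting coprimely on `G`: generation of invariant subgroups by the fixed
points of the cocyclic subgroups of `A`, in the language of `MulDistribMulAction`.
-/

set_option autoImplicit false

open Subgroup
open scoped Pointwise commutatorElement

namespace Cfsg.Agent.CoprimeRankThree

universe u

variable (A G : Type u) [Group A] [Group G] [MulDistribMulAction A G]

/-- The subgroups of `A` with cyclic quotient. -/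
abbrev Cocyc : Type u := {B : Subgroup A // ∃ a : A, B ⊔ zpowers a = ⊤}

variable {A G}

/-- Invariance of a subgroup under the action. -/
def Invariant (A : Type u) {G : Type u} [Group A] [Group G] [MulDistribMulAction A G]
    (H : Subgroup G) : Prop := ∀ a : A, ∀ h ∈ H, a • h ∈ H

theorem invariant_top : Invariant A (⊤ : Subgroup G) := fun _ _ _ => Subgroup.mem_top _

theorem mem_fixedPoints_zpowers {a : A} {x : G} :
    x ∈ FixedPoints.subgroup (zpowers a) G ↔ a • x = x := by
  constructor
  · exact fun h => h ⟨a, mem_zpowers a⟩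
  · intro h m
    have hm : zpowers a ≤ MulAction.stabilizer A x := zpowers_le.mpr h
    exact hm m.2

theorem fixedPoints_le_zpowers {B : Subgroup A} {a : A} (ha : a ∈ B) :
    FixedPoints.subgroup B G ≤ FixedPoints.subgroup (zpowers a) G :=
  fun _ hx => mem_fixedPoints_zpowers.mpr (hx ⟨a, ha⟩)

theorem invariant_fixedPoints (hc : ∀ a b : A, a * b = b * a) (a : A) :
    Invariant A (FixedPoints.subgroup (zpowers a) G) := by
  intro b x hx
  rw [mem_fixedPoints_zpowers] at hx ⊢
  rw [← mul_smul, hc, mul_smul, hx]

theorem Invariant.map_le {H : Subgroup G} (hH : Invariant A H) (a : A) :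
    H.map (MulDistribMulAction.toMulAut A G a).toMonoidHom ≤ H := by
  rintro _ ⟨x, hx, rfl⟩
  exact hH a x hx

theorem invariant_of_map_le {H : Subgroup G}
    (h : ∀ a : A, H.map (MulDistribMulAction.toMulAut A G a).toMonoidHom ≤ H) : Invariant A H :=
  fun a x hx => h a ⟨x, hx, rfl⟩

theorem Invariant.commutator {H K : Subgroup G} (hH : Invariant A H) (hK : Invariant A K) :
    Invariant A ⁅H, K⁆ := by
  refine invariant_of_map_le fun a => ?_
  rw [Subgroup.map_commutator]
  exact commutator_mono (hH.map_le a) (hK.map_le a)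

theorem Invariant.lowerCentralSeries {H : Subgroup G} (hH : Invariant A H) :
    ∀ k, Invariant A (H.lowerCentralSeries k)
  | 0 => hH
  | k + 1 => (Invariant.lowerCentralSeries hH k).commutator hH

variable [Finite A] [Finite G]

/-- An invariant subgroup is generated by its fixed points of cocyclic subgroups. -/
theorem le_iSup_fixedPoints (hc : ∀ a b : A, a * b = b * a)
    (hcop : (Nat.card A).Coprime (Nat.card G)) {H : Subgroup G} (hH : Invariant A H) :
    H ≤ ⨆ B : Cocyc A, H ⊓ FixedPoints.subgroup B.1 G := by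
  set φ := MulDistribMulAction.toMulAut A G with hφ
  have := Coprime.finite_semidirect φ
  have hcomm : IsMulCommutative (Coprime.inA φ) := by
    refine ⟨⟨?_⟩⟩
    rintro ⟨_, a, rfl⟩ ⟨_, b, rfl⟩
    apply Subtype.ext
    change SemidirectProduct.inr a * SemidirectProduct.inr b = _
    rw [← map_mul, hc, map_mul]
    rfl
  set T := ⨆ B : Cocyc A, H ⊓ FixedPoints.subgroup B.1 G with hT
  have hcopX : (Nat.card (Coprime.inA φ)).Coprime
      (Nat.card (H.map (SemidirectProduct.inl : G →* G ⋊[φ] A))) := by
    rw [Coprime.card_inA, card_map_of_injective SemidirectProduct.inl_injective]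
    exact hcop.coprime_dvd_right (card_subgroup_dvd_card H)
  have hgen := Coprime.iSup_cocyclic_centralizer_eq
    (A := Coprime.inA φ) (K := H.map (SemidirectProduct.inl : G →* G ⋊[φ] A))
    ((Coprime.inA_le_normalizer_map_iff φ).mpr hH) hcopX
  intro x hx
  have hle : (⨆ B ∈ Coprime.Cocyclic (Coprime.inA φ),
      H.map (SemidirectProduct.inl : G →* G ⋊[φ] A) ⊓ centralizer (B : Set (G ⋊[φ] A))) ≤
      T.map SemidirectProduct.inl := by
    refine iSup₂_le fun B hB => ?_
    obtain ⟨hBA, _, ⟨a, rfl⟩, hBa⟩ := hB
    have hBmap : (B.comap SemidirectProduct.inr).map SemidirectProduct.inr = B :=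
      map_comap_eq_self hBA
    have hcy : B.comap (SemidirectProduct.inr : A →* G ⋊[φ] A) ⊔ zpowers a = ⊤ := by
      apply map_injective (SemidirectProduct.inr_injective (φ := φ))
      rw [Subgroup.map_sup, hBmap, MonoidHom.map_zpowers, hBa, ← MonoidHom.range_eq_map]
    rintro _ ⟨⟨y, hy, rfl⟩, hyc⟩
    refine mem_map_of_mem _ (mem_iSup_of_mem ⟨_, a, hcy⟩ ⟨hy, fun b => ?_⟩)
    apply SemidirectProduct.inl_injective (φ := φ)
    have h1 := mem_centralizer_iff.mp hyc (SemidirectProduct.inr b.1) b.2
    have h2 := Coprime.inr_conj_inl φ b.1 y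
    rw [h1, mul_inv_cancel_right] at h2
    exact h2.symm
  exact (mem_map_iff_mem SemidirectProduct.inl_injective).mp
    (hle (hgen.symm ▸ mem_map_of_mem _ hx))

/-- Invariant Sylow subgroups. -/
theorem exists_invariant_sylow (hc : ∀ a b : A, a * b = b * a)
    (hcop : (Nat.card A).Coprime (Nat.card G)) (p : ℕ) [Fact p.Prime] :
    ∃ P : Sylow p G, Invariant A (P : Subgroup G) :=
  Coprime.exists_invariant_sylow_act (MulDistribMulAction.toMulAut A G) hcop
    (Or.inl (Group.isSolvable_of_comm hc)) p

/-- An invariant nilpotent subgroup is the product of its fixed point subgroups. -/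
theorem exists_prod_fixedPoints (hc : ∀ a b : A, a * b = b * a)
    (hcop : (Nat.card A).Coprime (Nat.card G)) [Fintype (Cocyc A)] {P : Subgroup G}
    (hP : Invariant A P) [Group.IsNilpotent P] {x : G} (hx : x ∈ P) :
    ∃ s : Cocyc A → G, (∀ B : Cocyc A, s B ∈ P ⊓ FixedPoints.subgroup B.1 G) ∧
      ((Finset.univ : Finset (Cocyc A)).toList.map s).prod = x := by
  obtain ⟨s, hs, hprod⟩ := exists_prod_of_nilpotent
    (fun B : Cocyc A => (FixedPoints.subgroup B.1 G).subgroupOf P) (fun k => by
      rw [← map_le_map_iff_of_injective P.subtype_injective, Subgroup.map_iSup]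
      simp only [Subgroup.map_inf _ _ _ P.subtype_injective, subgroupOf_map_subtype,
        Subgroup.top_subtype_lowerCentralSeries]
      refine (le_iSup_fixedPoints hc hcop (hP.lowerCentralSeries k)).trans
        (iSup_mono fun B => le_inf inf_le_left (le_inf inf_le_right ?_))
      exact inf_le_left.trans (P.lowerCentralSeries_le_self k)) ⟨x, hx⟩
  refine ⟨fun B => (s B : G), fun B => ⟨(s B).2, hs B⟩, ?_⟩
  have := congrArg P.subtype hprod
  rwa [map_list_prod, List.map_map] at this

end Cfsg.Agent.CoprimeRankThree
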